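import Cfsg.Agent.H9.Vanish
import Cfsg.Agent.S4558
import Cfsg.Agent.H88.ItoP
import Cfsg.Agent.H88.Deg2
import Cfsg.Agent.H6.CliffordCorr
import Cfsg.Agent.H22.Core

set_option autoImplicit false
set_option linter.unusedSectionVars false
set_option linter.style.haveILetI false

open Cfsg
open scoped commutatorElement Pointwise

namespace Cfsg.Agent.H9

universe u

/-- non-vanishing elements -/
def NV {G : Type*} [Group G] (g : G) : Prop := ∀ χ : G → ℂ, IsIrrCharacter G χ → χ g ≠ 0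

variable {G : Type*} [Group G]

theorem NV.map {Q : Type*} [Group Q] {g : G} (h : NV g) (f : G →* Q)
    (hf : Function.Surjective f) : NV (f g) :=
  fun _ hχ => h _ (H5.isIrrCharacter_comp hχ f hf)

theorem NV.eq_one_of_central [Finite G] {y : G} (h : NV y) (g : G)
    (hz : g * y * g⁻¹ * y⁻¹ ∈ Subgroup.center G) : g * y * g⁻¹ * y⁻¹ = 1 := by
  refine H5.eq_one_of_forall_irr fun χ hχ => ?_
  obtain ⟨ω, -, -, hω⟩ := H5.exists_apply_mul_eq_of_norm_eq (H5.isCharacter_of_isIrr hχ)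
    (H5.norm_apply_of_mem_center hχ hz)
  have h1 := hω y
  rw [inv_mul_cancel_right, H5.isClassFunction_of_isIrr hχ] at h1
  have h2 : ω = 1 := by
    have := mul_right_cancel₀ (h χ hχ) (h1.symm.trans (one_mul _).symm)
    exact this
  have h3 := hω 1
  rwa [mul_one, h2, one_mul] at h3

theorem NV.mem_center_of_nilpotent (G : Type u) [Group G] [Group.IsNilpotent G] :
    Finite G → ∀ y : G, NV y → y ∈ Subgroup.center G := by
  refine Group.nilpotent_center_quotient_ind
    (P := fun G _ _ => Finite G → ∀ y : G, NV y → y ∈ Subgroup.center G) G ?_ ?_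
  · exact fun G _ _ _ y _ => by rw [Subsingleton.elim y 1]; exact one_mem _
  · intro G _ _ ih _ y hy
    have h1 := ih inferInstance _ (hy.map (QuotientGroup.mk' _) (QuotientGroup.mk'_surjective _))
    rw [Subgroup.mem_center_iff]
    intro g
    have h2 := Subgroup.mem_center_iff.1 h1 (QuotientGroup.mk' _ g)
    have h3 : g * y * g⁻¹ * y⁻¹ ∈ Subgroup.center G := by
      rw [← QuotientGroup.eq_one_iff, ← QuotientGroup.mk'_apply]
      simp only [map_mul, map_inv, h2]
      group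
    have h4 := hy.eq_one_of_central g h3
    rw [mul_inv_eq_one, mul_inv_eq_iff_eq_mul] at h4
    exact h4

theorem NV.exists_conj_mem_inertia [Finite G] {g : G} (h : NV g) (N : Subgroup G) [N.Normal]
    {θ : N → ℂ} (hθ : IsIrrCharacter N θ) : ∃ x : G, x⁻¹ * g * x ∈ H6.inertia N θ := by
  classical
  haveI := Fintype.ofFinite G
  haveI := Fintype.ofFinite N
  haveI := Fintype.ofFinite (H6.inertia N θ)
  by_contra hc
  push Not at hc
  obtain ⟨χ, hχ, hne⟩ := H88.exists_irr_over N hθ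
  obtain ⟨ψ, -, e, -⟩ := H6.exists_clifford_correspondent N hθ _ rfl
    (H6.le_inertia N (H5.isClassFunction_of_isIrr hθ)) hχ hne
  exact h χ hχ (e ▸ H6.indFun_eq_zero_of_forall_conj_notMem _ ψ hc)

theorem exists_zero_of_not_comm [Finite G] (hna : ¬ IsMulCommutative G) :
    ∃ (χ : IrrCharacter G) (g : G), (χ : G → ℂ) g = 0 := by
  by_contra hc
  push Not at hc
  apply hna
  refine ⟨⟨fun a b => ?_⟩⟩
  rw [← commutatorElement_eq_one_iff_mul_comm]
  exact H5.eq_one_of_forall_irr fun χ hχ => (H88.commutator_le_charKer_iff hχ).2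
    (charDegree_eq_one_of_no_zero ⟨χ, hχ⟩ (hc _)) _
    (Subgroup.commutator_mem_commutator (Subgroup.mem_top _) (Subgroup.mem_top _))

theorem nv_of_mem_center [Finite G] {z : G} (hz : z ∈ Subgroup.center G) : NV z := by
  intro χ hχ h
  have := H5.norm_apply_of_mem_center hχ hz
  rw [h, norm_zero, eq_comm, norm_eq_zero] at this
  exact H5.degree_ne_zero hχ this

section main

variable [Finite G] {p : ℕ} [hp : Fact p.Prime] {P : Sylow p G} {K : Subgroup G} [hK : K.Normal]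

theorem compl_coprime (hc : K.IsComplement' (P : Subgroup G)) : (Nat.card K).Coprime p := by
  rw [← hc.index_eq_card]
  exact ((Nat.Prime.coprime_iff_not_dvd hp.out).2 P.not_dvd_index).symm

theorem compl_isPGroup (hc : K.IsComplement' (P : Subgroup G)) : IsPGroup p (G ⧸ K) := by
  obtain ⟨n, hn⟩ := P.isPGroup'.exists_card_eq
  exact IsPGroup.of_card (n := n) (by rw [← hn, ← hc.symm.index_eq_card]; rfl)

theorem compl_eq_one (hc : K.IsComplement' (P : Subgroup G)) {x : G} (h1 : x ∈ K)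
    (h2 : ∃ m, x ^ p ^ m = 1) : x = 1 := by
  obtain ⟨m, hm⟩ := h2
  have h3 := orderOf_dvd_of_pow_eq_one hm
  have h4 := K.orderOf_dvd_natCard h1
  rw [← orderOf_eq_one_iff]
  exact Nat.eq_one_of_dvd_coprimes ((compl_coprime hc).pow_right m) h4 h3

theorem claimA (hc : K.IsComplement' (P : Subgroup G))
    (hvan : ∀ g : G, ¬ NV g → ∃ m : ℕ, orderOf g = p ^ m) {y k : G} (hy : y ∈ P) (hk : k ∈ K)
    (hk1 : k ≠ 1) (hyk : Commute y k) : y ∈ Subgroup.center G := by
  obtain ⟨a, ha⟩ := P.isPGroup' ⟨y, hy⟩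
  have ha' : y ^ p ^ a = 1 := by simpa using congrArg Subtype.val ha
  have hnv : NV (y * k) := by
    by_contra h
    obtain ⟨m, hm⟩ := hvan _ h
    refine hk1 (compl_eq_one hc hk ⟨m + a, ?_⟩)
    have h1 : (y * k) ^ p ^ (m + a) = 1 := by
      rw [pow_add, pow_mul, ← hm, pow_orderOf_eq_one, one_pow]
    rwa [hyk.mul_pow, pow_add, mul_comm (p ^ m), pow_mul y, ha', one_pow, one_mul, mul_comm,
      ← pow_add] at h1
  haveI := (compl_isPGroup hc).isNilpotent
  have h1 := NV.mem_center_of_nilpotent (G ⧸ K) inferInstance _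
    (hnv.map (QuotientGroup.mk' K) (QuotientGroup.mk'_surjective K))
  have hky : QuotientGroup.mk' K (y * k) = QuotientGroup.mk' K y := by
    rw [map_mul, show QuotientGroup.mk' K k = 1 from (QuotientGroup.eq_one_iff k).2 hk, mul_one]
  rw [hky] at h1
  have h2 : ∀ x : G, x * y * x⁻¹ * y⁻¹ ∈ K := fun x => by
    rw [← QuotientGroup.eq_one_iff, ← QuotientGroup.mk'_apply]
    simp only [map_mul, map_inv, Subgroup.mem_center_iff.1 h1 (QuotientGroup.mk' K x)]
    group
  have h3 : Subgroup.zpowers y ≤ Subgroup.centralizer (K : Set G) := by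
    refine H88.le_centralizer_of_forall_inertia K (compl_coprime hc)
      (P.isPGroup'.to_le (Subgroup.zpowers_le.2 hy)) fun θ hθ => Subgroup.zpowers_le.2 ?_
    obtain ⟨x, hx⟩ := hnv.exists_conj_mem_inertia K hθ
    have hKI := H6.le_inertia K (H5.isClassFunction_of_isIrr hθ)
    have h4 : y = (x⁻¹ * y * x⁻¹⁻¹ * y⁻¹)⁻¹ * (x⁻¹ * (y * k) * x) * (x⁻¹ * k * x⁻¹⁻¹)⁻¹ := by group
    rw [h4]
    exact mul_mem (mul_mem (inv_mem (hKI (h2 _))) hx) (inv_mem (hKI (hK.conj_mem _ hk _)))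
  rw [Subgroup.mem_center_iff]
  intro g
  obtain ⟨⟨⟨k', hk'⟩, ⟨u, hu⟩⟩, rfl⟩ := hc.2 g
  have h5 : k' * y = y * k' := h3 (Subgroup.mem_zpowers y) k' hk'
  have h6 : u * y * u⁻¹ * y⁻¹ = 1 := by
    have h7 : u * y * u⁻¹ * y⁻¹ ∈ (P : Subgroup G) :=
      mul_mem (mul_mem (mul_mem hu hy) (inv_mem hu)) (inv_mem hy)
    exact Subgroup.mem_bot.1 (hc.disjoint.le_bot ⟨h2 u, h7⟩)
  rw [mul_inv_eq_one, mul_inv_eq_iff_eq_mul] at h6
  simp only
  rw [mul_assoc, h6, ← mul_assoc, h5, mul_assoc]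

theorem claimB (hna : ¬ IsMulCommutative G)
    (hvan : ∀ g : G, ¬ NV g → ∃ m : ℕ, orderOf g = p ^ m) :
    ¬ (P : Subgroup G) ≤ Subgroup.center G := by
  intro h
  obtain ⟨χ, g, hg⟩ := exists_zero_of_not_comm hna
  have hg' : ¬ NV g := fun hn => hn χ χ.2 hg
  obtain ⟨m, hm⟩ := hvan g hg'
  have hP : (P : Subgroup G).Normal := ⟨fun n hn x => by
    rwa [Subgroup.mem_center_iff.1 (h hn) x, mul_inv_cancel_right]⟩
  have h1 : IsPGroup p (Subgroup.zpowers g) :=
    IsPGroup.of_card (n := m) (by rw [Nat.card_zpowers, hm])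
  obtain ⟨Q, hQ⟩ := h1.exists_le_sylow
  haveI := Sylow.unique_of_normal P hP
  rw [Subsingleton.elim Q P] at hQ
  exact hg' (nv_of_mem_center (h (hQ (Subgroup.mem_zpowers g))))

theorem vanish_pow_main (hc : K.IsComplement' (P : Subgroup G)) (hna : ¬ IsMulCommutative G)
    (hvan : ∀ g : G, ¬ NV g → ∃ m : ℕ, orderOf g = p ^ m) (hG : ¬ IsPGroup p G) :
    Subgroup.center G = pCore p G ∧ ∃ H : Subgroup (G ⧸ Subgroup.center G),
      IsFrobeniusComplement H ∧ IsPGroup p H := by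
  obtain ⟨k, hk, hk1⟩ : ∃ k ∈ K, k ≠ 1 := by
    by_contra h
    push Not at h
    apply hG
    intro g
    obtain ⟨⟨⟨k', hk'⟩, u⟩, rfl⟩ := hc.2 g
    obtain ⟨a, ha⟩ := P.isPGroup' u
    refine ⟨a, ?_⟩
    simp only [h k' hk', one_mul]
    simpa using congrArg Subtype.val ha
  have hB := claimB (P := P) hna hvan
  have hZK : ∀ z ∈ Subgroup.center G, z ∈ K → z = 1 := fun z hz hzK => by
    by_contra h1
    exact hB fun y hy => claimA hc hvan hy hzK h1 (Subgroup.mem_center_iff.1 hz y)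
  have hZ : IsPGroup p (Subgroup.center G) := fun z => by
    obtain ⟨a, ha⟩ := compl_isPGroup hc (z : G)
    refine ⟨a, Subtype.ext (hZK _ (z ^ p ^ a).2 ?_)⟩
    rw [← QuotientGroup.eq_one_iff]
    simpa using ha
  have hZP : Subgroup.center G ≤ P := hZ.le_sylow_of_normal P
  refine ⟨le_antisymm (H22.le_pCore inferInstance hZ) fun y hy => ?_,
    (P : Subgroup G).map (QuotientGroup.mk' _), ⟨?_, ?_, ?_⟩, P.isPGroup'.map _⟩
  · refine claimA hc hvan (H22.pCore_le_sylow P hy) hk hk1 ?_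
    exact Subgroup.commute_of_normal_of_disjoint (pCore p G) K inferInstance hK
      (hc.disjoint.symm.mono_left (H22.pCore_le_sylow P)) y k hy hk
  · rw [Ne, Subgroup.map_eq_bot_iff, QuotientGroup.ker_mk']
    exact hB
  · intro h
    have : k ∈ ((P : Subgroup G).map (QuotientGroup.mk' (Subgroup.center G))).comap
        (QuotientGroup.mk' _) := by rw [h]; trivial
    rw [Subgroup.comap_map_eq, QuotientGroup.ker_mk', sup_eq_left.2 hZP] at this
    exact hk1 (Subgroup.mem_bot.1 (hc.disjoint.le_bot ⟨hk, this⟩))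
  · intro g hg
    obtain ⟨g, rfl⟩ := QuotientGroup.mk'_surjective _ g
    obtain ⟨⟨⟨k', hk'⟩, ⟨u, hu⟩⟩, rfl⟩ := hc.2 g
    simp only at hg ⊢
    have hk'1 : k' ≠ 1 := by
      rintro rfl
      exact hg ⟨u, hu, by rw [one_mul]⟩
    rw [eq_bot_iff]
    intro y0 hy0
    obtain ⟨⟨y, hy, rfl⟩, h2⟩ := Subgroup.mem_inf.1 hy0
    rw [Subgroup.mem_smul_pointwise_iff_exists] at h2
    obtain ⟨_, ⟨y', hy', rfl⟩, h3⟩ := h2
    rw [MulAut.smul_def, MulAut.conj_apply, ← map_inv, ← map_mul, ← map_mul,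
      QuotientGroup.mk'_apply, QuotientGroup.mk'_apply, QuotientGroup.eq] at h3
    set z := (k' * u * y' * (k' * u)⁻¹)⁻¹ * y with hz
    have h4 : y = k' * (u * y' * u⁻¹ * z) * k'⁻¹ := by
      have h5 := Subgroup.mem_center_iff.1 h3 k'⁻¹
      calc y = k' * (u * y' * u⁻¹) * (k'⁻¹ * z) := by rw [hz]; group
        _ = _ := by rw [h5]; group
    have h6 : u * y' * u⁻¹ * z ∈ (P : Subgroup G) :=
      mul_mem (mul_mem (mul_mem hu hy') (inv_mem hu)) (hZP h3)
    set w := u * y' * u⁻¹ * z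
    have h7 : y * w⁻¹ = 1 := by
      refine Subgroup.mem_bot.1 (hc.disjoint.le_bot ⟨?_, (P : Subgroup G).mul_mem hy (inv_mem h6)⟩)
      have : y * w⁻¹ = k' * (w * k'⁻¹ * w⁻¹) := by rw [h4]; group
      rw [this]
      exact mul_mem hk' (hK.conj_mem _ (inv_mem hk') _)
    rw [mul_inv_eq_one] at h7
    rw [← h7, eq_mul_inv_iff_mul_eq] at h4
    rw [Subgroup.mem_bot, QuotientGroup.mk'_apply, QuotientGroup.eq_one_iff]
    exact claimA hc hvan hy hk' hk'1 h4

theorem hasNormalPComplement_of_vanish (hvan : ∀ g : G, ¬ NV g → ∃ m : ℕ, orderOf g = p ^ m) :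
    HasNormalPComplement p G := by
  obtain ⟨M, hM⟩ := H88.exists_isPModular hp.out
  haveI := hM.2.1
  refine (S4888.result p M hM).1 ⟨1, fun χ hχ h0 => charDegree_eq_one_of_no_zero χ fun g hg => ?_⟩
  exact (H89.blockHeight_principal_eq_zero_iff hM.1 hχ).1 h0
    (S4558.result p _ (H5.isCharacter_of_isIrr χ.2) g (hvan g fun h => h χ χ.2 hg) hg)

end main

end Cfsg.Agent.H9
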