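import Cfsg.Agent.H9.Camina
import Cfsg.Agent.H9.Vanish2
import Cfsg.Agent.H88.Vanish
import Cfsg.Agent.H33.Kernel
import Cfsg.Agent.S0033
import Cfsg.Agent.S0205

set_option autoImplicit false
set_option linter.unusedSectionVars false
set_option linter.style.haveILetI false

open Cfsg
open scoped commutatorElement

namespace Cfsg.Agent.H9

section quot

variable {H : Type*} [Group H] [Finite H] {V : Subgroup H} {g : H}

theorem tr_prime [hV : V.Normal] (hg : g ∈ V) (hg1 : g ≠ 1)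
    (hconj : ∀ x ∈ V, x ≠ 1 → IsConj g x) :
    ∃ p : ℕ, p.Prime ∧ (∀ v ∈ V, v ^ p = 1) ∧ ∀ x ∈ V, ∀ y ∈ V, x * y = y * x := by
  have hn : orderOf g ≠ 1 := by rwa [Ne, orderOf_eq_one_iff]
  have hp := Nat.minFac_prime hn
  set p := (orderOf g).minFac
  haveI := Fact.mk hp
  have h1 : orderOf (g ^ (orderOf g / p)) = p :=
    orderOf_pow_orderOf_div (orderOf_pos g).ne' (Nat.minFac_dvd _)
  have h2 : g ^ p = 1 := by
    obtain ⟨c, hc⟩ := isConj_iff.1 (hconj _ (V.pow_mem hg (orderOf g / p)) fun h => by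
      rw [h, orderOf_one] at h1; exact hp.one_lt.ne h1)
    have := pow_orderOf_eq_one (g ^ (orderOf g / p))
    rw [h1, ← hc, conj_pow, conj_eq_one_iff] at this
    exact this
  have h3 : ∀ v ∈ V, v ^ p = 1 := fun v hv => by
    by_cases h : v = 1
    · rw [h, one_pow]
    · obtain ⟨c, rfl⟩ := isConj_iff.1 (hconj v hv h)
      rw [conj_pow, h2, mul_one, mul_inv_cancel]
  refine ⟨p, hp, h3, ?_⟩
  have hP : IsPGroup p V := fun v => ⟨1, Subtype.ext (by simpa using h3 v v.2)⟩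
  obtain ⟨z, -, hz, hz1⟩ := H3.exists_mem_center_orderOf_eq hP ⊤ fun h0 => by
    have : (⟨g, hg⟩ : V) ∈ (⊤ : Subgroup V) := trivial
    rw [h0, Subgroup.mem_bot] at this
    exact hg1 (congrArg Subtype.val this)
  have hz2 : (z : H) ≠ 1 := fun h => by
    rw [show z = 1 from Subtype.ext h, orderOf_one] at hz1; exact hp.one_lt.ne hz1
  intro x hx y hy
  by_cases h : x = 1
  · rw [h, one_mul, mul_one]
  obtain ⟨c, rfl⟩ := isConj_iff.1 ((hconj _ z.2 hz2).symm.trans (hconj x hx h))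
  have := congrArg Subtype.val (Subgroup.mem_center_iff.1 hz ⟨c⁻¹ * y * c⁻¹⁻¹, hV.conj_mem y hy _⟩)
  simp only [Subgroup.coe_mul, inv_inv] at this
  calc c * z * c⁻¹ * y = c * (z * (c⁻¹ * y * c)) * c⁻¹ := by group
    _ = _ := by rw [← this]; group

theorem tr_cent (hd : ∀ a b : H, a * b * a⁻¹ * b⁻¹ ∈ V) (hconj : ∀ x ∈ V, x ≠ 1 → IsConj g x)
    (hab : ∀ x ∈ V, ∀ y ∈ V, x * y = y * x) {h y : H} (hy : y ∈ V) (hy1 : y ≠ 1)
    (e : h * y = y * h) : ∀ x ∈ V, h * x = x * h := by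
  intro x hx
  by_cases h1 : x = 1
  · rw [h1, one_mul, mul_one]
  obtain ⟨c, rfl⟩ := isConj_iff.1 ((hconj y hy hy1).symm.trans (hconj x hx h1))
  have e2 := hab _ (hd h⁻¹ c⁻¹) y hy
  calc h * (c * y * c⁻¹) = c * h * (h⁻¹ * c⁻¹ * h⁻¹⁻¹ * c⁻¹⁻¹ * y) * c⁻¹ := by group
    _ = c * (h * y) * (h⁻¹ * c⁻¹ * h) := by rw [e2]; group
    _ = _ := by rw [e]; group

theorem tr_cases [hV : V.Normal] (hd : ∀ a b : H, a * b * a⁻¹ * b⁻¹ ∈ V) (hg : g ∈ V)
    (hg1 : g ≠ 1) (hconj : ∀ x ∈ V, x ≠ 1 → IsConj g x) (hZ : Subgroup.center H ≤ V) :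
    IsPGroup 2 H ∨ ∃ p : ℕ, p.Prime ∧ Cam p V ⊥ := by
  classical
  obtain ⟨p, hp, hpw, hab⟩ := tr_prime hg hg1 hconj
  by_cases hA : ∀ x ∈ V, x ≠ 1 → x = g
  · left
    have hgc : ∀ c, c * g * c⁻¹ = g := fun c => hA _ (hV.conj_mem g hg c) (by simpa using hg1)
    have hg2 : g * g = 1 := by
      by_contra h
      exact hg1 (left_eq_mul.1 (hA _ (V.mul_mem hg hg) h).symm)
    have hv : ∀ v ∈ V, v * v = 1 ∧ ∀ c, c * v * c⁻¹ = v := fun v hv => by
      by_cases h : v = 1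
      · simp [h]
      · rw [hA v hv h]; exact ⟨hg2, hgc⟩
    intro y
    have h1 : y * y ∈ V := hZ (Subgroup.mem_center_iff.2 fun x => by
      obtain ⟨e1, e2⟩ := hv _ (hd y x)
      calc x * (y * y) = (y * x * y⁻¹ * x⁻¹ * (y * x * y⁻¹ * x⁻¹)) * x * (y * y) := by
            rw [e1, one_mul]
        _ = (y * (y * x * y⁻¹ * x⁻¹) * y⁻¹ * (y * x * y⁻¹ * x⁻¹)) * x * (y * y) := by rw [e2 y]
        _ = _ := by group)
    refine ⟨2, ?_⟩
    rw [show 2 ^ 2 = 2 * 2 from rfl, pow_mul, sq, sq]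
    exact (hv _ h1).1
  right
  push Not at hA
  obtain ⟨x, hx, hx1, hxg⟩ := hA
  obtain ⟨a, rfl⟩ := isConj_iff.1 (hconj x hx hx1)
  have ha : ∀ y ∈ V, a * y = y * a → y = 1 := fun y hy e => by
    by_contra h
    exact hxg (by rw [tr_cent hd hconj hab hy h e g hg, mul_inv_cancel_right])
  have hfp : MonoidHom.FixedPointFree (MulAut.conjNormal a : MulAut V) := fun y e =>
    Subtype.ext (ha y y.2 (mul_inv_eq_iff_eq_mul.1 (congrArg Subtype.val e)))
  have hs : ∀ b : H, ∃ v ∈ V, a * (b * v) = (b * v) * a := fun b => by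
    obtain ⟨v, e⟩ := hfp.commutatorMap_surjective ⟨_, hd b⁻¹ a⟩
    have e' := congrArg Subtype.val e
    simp only [MonoidHom.commutatorMap_apply, div_eq_mul_inv, Subgroup.coe_mul, Subgroup.coe_inv,
      MulAut.conjNormal_apply] at e'
    refine ⟨v, v.2, ?_⟩
    calc a * (b * v) = b * (b⁻¹ * a * b⁻¹⁻¹ * a⁻¹) * (a * v) := by group
      _ = _ := by rw [← e']; group
  have hC : ∀ h : H, (∀ x ∈ V, h * x = x * h) → h ∈ V := fun h hh => by
    obtain ⟨v, hv, e⟩ := hs h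
    have h1 : h * v ∈ V := hZ (Subgroup.mem_center_iff.2 fun b => by
      obtain ⟨w, hw, e2⟩ := hs b
      have e3 : Commute a (b * w * (h * v) * (b * w)⁻¹ * (h * v)⁻¹) :=
        ((Commute.mul_right e2 e).mul_right (Commute.inv_right e2)).mul_right (Commute.inv_right e)
      have e4 := ha _ (hd _ _) e3
      rw [mul_inv_eq_one, mul_inv_eq_iff_eq_mul] at e4
      have e5 : w * (h * v) = h * v * w := by
        rw [← mul_assoc, ← hh w hw, mul_assoc, mul_assoc, hab w hw v hv]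
      calc b * (h * v) = b * (h * v * w) * w⁻¹ := by group
        _ = b * w * (h * v) * w⁻¹ := by rw [← e5]; group
        _ = _ := by rw [e4]; group)
    simpa using V.mul_mem h1 (V.inv_mem hv)
  refine ⟨p, hp, hV, inferInstance, bot_le, fun x _ _ k hk => ⟨1, one_mem _, ?_⟩,
    fun x hx y hy => ?_, fun h hh y hy e => ?_, ?_, ⟨g, hg, hg1⟩, hpw⟩
  · rw [Subgroup.mem_bot.1 hk]; group
  · rw [Subgroup.mem_bot, hab y hy x hx]; group
  · rw [Subgroup.mem_bot, mul_inv_eq_one, mul_inv_eq_iff_eq_mul] at e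
    by_contra h1
    exact hh (hC h (tr_cent hd hconj hab hy h1 e))
  · haveI := Fintype.ofFinite H
    have h1 : Subgroup.centralizer ({g} : Set H) = V := by
      ext h
      rw [Subgroup.mem_centralizer_singleton_iff]
      exact ⟨fun e => hC h (tr_cent hd hconj hab hg hg1 e), fun hh => hab h hh g hg⟩
    rw [Subgroup.relIndex_bot_left, ← h1, ← H5.card_filter_isConj, h1, Nat.card_eq_fintype_card,
      Fintype.card_subtype, ← Finset.card_insert_of_notMem (a := 1)]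
    · congr 1
      ext x
      simp only [Finset.mem_filter, Finset.mem_univ, true_and, Finset.mem_insert]
      refine ⟨fun hx => or_iff_not_imp_left.2 (hconj x hx), fun hx => hx.elim
        (fun e => e ▸ one_mem _) fun e => ?_⟩
      obtain ⟨c, rfl⟩ := isConj_iff.1 e
      exact hV.conj_mem g hg c
    · simpa using hg1

end quot

variable {G : Type*} [Group G] [Finite G] {p : ℕ} {D K : Subgroup G}

theorem Cam.of_quot [hK : K.Normal] (hD : D.Normal) (hle : K ≤ D)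
    (h : Cam p (D.map (QuotientGroup.mk' K)) ⊥)
    (hconj : ∀ x ∈ D, x ∉ K → ∀ y ∈ D, y ∉ K → IsConj x y) : Cam p D K := by
  have hm : ∀ x : G, QuotientGroup.mk' K x ∈ (⊥ : Subgroup (G ⧸ K)) ↔ x ∈ K := fun x => by
    rw [Subgroup.mem_bot, QuotientGroup.mk'_apply, QuotientGroup.eq_one_iff]
  have hfpf : ∀ a, a ∉ D → ∀ y ∈ D, a * y * a⁻¹ * y⁻¹ ∈ K → y ∈ K := fun a ha y hy e =>
    (hm y).1 (h.fpf _ (fun h1 => ha ((mem_map_mk'_iff hle).1 h1)) _ ⟨y, hy, rfl⟩
      (by rw [← hm] at e; simpa only [map_mul, map_inv] using e))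
  refine ⟨hD, hK, hle, fun x hx hxK k hk => ?_, fun x hx y hy => ?_, hfpf, ?_, ?_, fun y hy => ?_⟩
  · obtain ⟨c, hc⟩ := isConj_iff.1 (hconj x hx hxK (x * k) (D.mul_mem hx (hle hk)) fun h1 =>
      hxK (by simpa using K.mul_mem h1 (K.inv_mem hk)))
    refine ⟨c, by_contra fun h1 => hxK (hfpf c h1 x hx ?_), hc⟩
    rw [hc]
    exact hK.conj_mem k hk x
  · rw [← hm]
    simpa only [map_mul, map_inv] using h.comm _ ⟨x, hx, rfl⟩ _ ⟨y, hy, rfl⟩
  · have := h.idx
    rw [Subgroup.index_map_eq _ (QuotientGroup.mk'_surjective K)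
      (by rwa [QuotientGroup.ker_mk'])] at this
    rw [← this, ← Subgroup.relIndex_comap, MonoidHom.comap_bot, QuotientGroup.ker_mk']
  · obtain ⟨_, ⟨x, hx, rfl⟩, h1⟩ := h.ne
    exact ⟨x, hx, fun h2 => h1 ((hm x).2 h2)⟩
  · rw [← hm, map_pow]
    exact h.pw _ ⟨y, hy, rfl⟩

theorem orderOf_eq_pow_of_conj [hp : Fact p.Prime] (hpw : ∀ y ∈ D, ∃ k, y ^ p ^ k ∈ K)
    (hconj : ∀ x ∈ D, x ∉ K → ∀ y ∈ D, y ∉ K → IsConj x y) {x : G} (hx : x ∈ D) (hxK : x ∉ K) :
    ∃ a, orderOf x = p ^ a := by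
  obtain ⟨a, m, hm, e⟩ := Nat.exists_eq_pow_mul_and_not_dvd (orderOf_pos x).ne' p hp.out.ne_one
  obtain ⟨k, hk⟩ := hpw x hx
  have h1 : x ^ m ∉ K := fun h => hxK (by
    obtain ⟨u, v, e⟩ := Nat.isCoprime_iff_coprime.2
      (((Nat.Prime.coprime_iff_not_dvd hp.out).2 hm).symm.pow_right k)
    have := K.mul_mem (K.zpow_mem h u) (K.zpow_mem hk v)
    rwa [← zpow_natCast, ← zpow_natCast, ← zpow_mul, ← zpow_mul, ← zpow_add, mul_comm,
      mul_comm _ v, e, zpow_one] at this)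
  obtain ⟨c, hc⟩ := isConj_iff.1 (hconj x hx hxK _ (D.pow_mem hx m) h1)
  have h2 : x ^ p ^ a = 1 := by
    have : (x ^ m) ^ p ^ a = 1 := by rw [← pow_mul, mul_comm, ← e, pow_orderOf_eq_one]
    rwa [← hc, conj_pow, conj_eq_one_iff] at this
  obtain ⟨b, -, hb⟩ := (Nat.dvd_prime_pow hp.out).1 (orderOf_dvd_of_pow_eq_one h2)
  exact ⟨b, hb⟩

theorem hasNormalPComplement_of_dvd [hp : Fact p.Prime]
    (h : ∀ χ : IrrCharacter G, charDegree (χ : G → ℂ) ≠ 1 → p ∣ charDegree (χ : G → ℂ)) :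
    HasNormalPComplement p G := by
  obtain ⟨M, hM⟩ := H88.exists_isPModular hp.out
  haveI := hM.2.1
  exact (S4888.result p M hM).1 ⟨1, fun χ hχ h0 => by_contra fun h1 =>
    (H89.blockHeight_principal_eq_zero_iff hM.1 hχ).1 h0 (h χ h1)⟩

theorem solv_of_normal (N : Subgroup G) [N.Normal] [Group.IsSolvable N]
    [Group.IsSolvable (G ⧸ N)] : Group.IsSolvable G :=
  Group.isSolvable_of_ker_le_range N.subtype (QuotientGroup.mk' N) (by
    rw [QuotientGroup.ker_mk', Subgroup.range_subtype])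

theorem solv_of_complement [hp : Fact p.Prime] {N : Subgroup G} [N.Normal]
    (hN : Group.IsSolvable N) {k : ℕ} (hk : N.index = p ^ k) : Group.IsSolvable G := by
  haveI := (IsPGroup.of_card (G := G ⧸ N) hk).isNilpotent
  exact solv_of_normal N

theorem Cam.solvable [hp : Fact p.Prime] (h : Cam p D K)
    (hconj : ∀ x ∈ D, x ∉ K → ∀ y ∈ D, y ∉ K → IsConj x y) : Group.IsSolvable D := by
  classical
  haveI := h.nK
  haveI := h.nD
  have hpe : ∀ x ∈ D, x ∉ K → ∃ a, orderOf x = p ^ a := fun x hx hxK =>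
    orderOf_eq_pow_of_conj (fun y hy => ⟨1, by rw [pow_one]; exact h.pw y hy⟩) hconj hx hxK
  have h1 : HasNormalPComplement p D := hasNormalPComplement_of_dvd fun θ hθ => by
    obtain ⟨x, hx, hxK⟩ := h.ne
    haveI := Fintype.ofFinite (K.subgroupOf D)
    have h2 : ∃ n ∈ K.subgroupOf D, (θ : D → ℂ) n ≠ (θ : D → ℂ) 1 := by
      by_contra h3
      push Not at h3
      refine hθ ((H88.commutator_le_charKer_iff θ.2).1 fun y hy => h3 y ?_)
      refine (Subgroup.commutator_le.2 ?_ : commutator D ≤ K.subgroupOf D) hy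
      exact fun a _ b _ => h.comm b b.2 a a.2
    have h3 := H88.sum_normal_mul_eq_zero θ.2 _ h2 ⟨x, hx⟩
    rw [Finset.sum_congr rfl (g := fun _ => (θ : D → ℂ) ⟨x, hx⟩) fun n _ => by
      obtain ⟨y, hy, e⟩ := h.cam x hx hxK (x⁻¹ * (n : D) * x⁻¹⁻¹) (h.nK.conj_mem _ n.2 _)
      rw [← H5.isClassFunction_of_isIrr θ.2 ⟨x, hx⟩ ⟨y, hy⟩]
      refine congrArg _ (Subtype.ext ?_)
      simp only [Subgroup.coe_mul, Subgroup.coe_inv]
      rw [e]; group] at h3
    simp only [Finset.sum_const, Finset.card_univ, nsmul_eq_mul, mul_eq_zero, Nat.cast_eq_zero,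
      Fintype.card_ne_zero, false_or] at h3
    obtain ⟨a, ha⟩ := hpe x hx hxK
    exact S4558.result p _ (H5.isCharacter_of_isIrr θ.2) _ ⟨a, by rwa [Subgroup.orderOf_mk]⟩ h3
  obtain ⟨N, hN, hc, k, hk⟩ := H3.hasNormalPComplement_iff_exists_normal.1 h1
  refine solv_of_complement ?_ hk
  by_cases hodd : p = 2
  · subst hodd
    exact S0205.result (Nat.coprime_two_right.1 hc)
  have hNp : ¬ p ∣ Nat.card N := (Nat.Prime.coprime_iff_not_dvd hp.out).1 hc.symm
  have hreg := H33.regular_iff_mem_of_normal_complement hp.out N hNp ⟨k, hk⟩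
  set M := N.map D.subtype with hM
  have hmem : ∀ x, x ∈ M ↔ x ∈ D ∧ ¬ p ∣ orderOf x := fun x =>
    ⟨by rintro ⟨y, hy, rfl⟩; exact ⟨y.2, by simpa using (hreg y).2 hy⟩,
      fun hx => ⟨⟨x, hx.1⟩, (hreg _).1 (by simpa using hx.2), rfl⟩⟩
  haveI hMn : M.Normal := ⟨fun x hx c => by
    rw [hmem] at hx ⊢
    exact ⟨h.nD.conj_mem x hx.1 c, by
      rw [← MulAut.conj_apply, (MulAut.conj c).orderOf_eq]; exact hx.2⟩⟩
  have hone : ∀ x ∈ M, ∀ a, x ^ p ^ a = 1 → x = 1 := fun x hx a e => by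
    obtain ⟨b, -, hb⟩ := (Nat.dvd_prime_pow hp.out).1 (orderOf_dvd_of_pow_eq_one e)
    rcases b with _ | b
    · simpa using hb
    · exact absurd (hb ▸ dvd_pow_self p b.succ_ne_zero) ((hmem x).1 hx).2
  have hMK : M ≤ K := fun x hx => by
    by_contra h2
    obtain ⟨a, ha⟩ := hpe x ((hmem x).1 hx).1 h2
    exact h2 (hone x hx a (ha ▸ pow_orderOf_eq_one x) ▸ one_mem _)
  have hDp : IsPGroup p (D.map (QuotientGroup.mk' M)) := by
    rintro ⟨_, y, hy, rfl⟩
    refine ⟨k, Subtype.ext ?_⟩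
    exact (QuotientGroup.eq_one_iff _).2 ⟨_, hk ▸ N.pow_index_mem ⟨y, hy⟩, rfl⟩
  obtain ⟨_, ⟨x, hx, rfl⟩, hxK, hxp⟩ := (h.map M hMK).exists_pow_eq_one hodd hDp
  rw [mem_map_mk'_iff hMK] at hxK
  rw [← map_pow, QuotientGroup.mk'_apply, QuotientGroup.eq_one_iff] at hxp
  obtain ⟨a, ha⟩ := hpe x hx hxK
  have hx1 : x ^ p = 1 := hone _ hxp a (by
    rw [← pow_mul, mul_comm, pow_mul, ← ha, pow_orderOf_eq_one, one_pow])
  haveI := S0033.aux hp.out M (MulAut.conjNormal x) (fun m e => by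
    have e' : Commute x m := mul_inv_eq_iff_eq_mul.1 (congrArg Subtype.val e)
    obtain ⟨b, hb⟩ := hpe (x * m) (D.mul_mem hx ((hmem _).1 m.2).1) fun h2 =>
      hxK (by simpa using K.mul_mem h2 (K.inv_mem (hMK m.2)))
    refine Subtype.ext (hone m m.2 (b + 1) ?_)
    have h3 : (x * m) ^ p ^ (b + 1) = 1 := by
      rw [pow_succ, pow_mul, ← hb, pow_orderOf_eq_one, one_pow]
    rwa [e'.mul_pow, pow_succ', pow_mul x, hx1, one_pow, one_mul, ← pow_succ'] at h3)
    (by rw [← map_pow, hx1, map_one])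
  exact Group.isSolvable_of_isSolvable_injective
    (f := (N.equivMapOfInjective D.subtype D.subtype_injective).toMonoidHom) (MulEquiv.injective _)

section main

variable {g : G} {χ : IrrCharacter G}

theorem one_mul_lin (hχ1 : charDegree (χ : G → ℂ) ≠ 1) (hχg : (χ : G → ℂ) g ≠ 0)
    (hother : ∀ ψ : IrrCharacter G, charDegree (ψ : G → ℂ) ≠ 1 → ψ ≠ χ → (ψ : G → ℂ) g = 0)
    {x : G} (hx : (χ : G → ℂ) x ≠ 0) : x ∈ commutator G := by
  by_contra h
  obtain ⟨θ, h1, h2⟩ := H89.exists_linear_apply_ne h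
  obtain ⟨lam, hl⟩ := H5.exists_monoidHom_of_degree_one (H5.isCharacter_of_isIrr θ.2)
    ((H88.charDegree_eq_one_iff (H5.isCharacter_of_isIrr θ.2)).mp h1)
  have h3 : (⟨_, H5.isIrrCharacter_monoidHom_mul χ.2 lam⟩ : IrrCharacter G) = χ := by
    by_contra h4
    have := hother _ (by simpa [charDegree] using hχ1) h4
    exact mul_ne_zero (lam g).ne_zero hχg this
  have h4 := congrFun (congrArg Subtype.val h3) x
  simp only [mul_eq_right₀ hx] at h4
  rw [hl] at h2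
  exact h2 (by simpa using h4)

theorem one_col (hχ1 : charDegree (χ : G → ℂ) ≠ 1) (hg : g ∈ commutator G)
    (hother : ∀ ψ : IrrCharacter G, charDegree (ψ : G → ℂ) ≠ 1 → ψ ≠ χ → (ψ : G → ℂ) g = 0)
    {x : G} (hx : x ∈ commutator G) (hxg : ¬ IsConj g x) :
    ((commutator G).index : ℂ) + (χ : G → ℂ) g * (starRingEnd ℂ) ((χ : G → ℂ) x) = 0 := by
  classical
  haveI := Fintype.ofFinite (IrrCharacter G)
  rw [← H5.sum_irr_mul_conj_of_not_isConj hxg, ← Finset.sum_filter_add_sum_filter_not _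
    fun ψ : IrrCharacter G => charDegree (ψ : G → ℂ) = 1]
  congr 1
  · rw [Finset.sum_congr rfl (g := fun _ => (1 : ℂ)) fun ψ hψ => by
      have h1 := (Finset.mem_filter.1 hψ).2
      have h2 := (H88.commutator_le_charKer_iff ψ.2).2 h1
      rw [h2 g hg, h2 x hx, (H88.charDegree_eq_one_iff (H5.isCharacter_of_isIrr ψ.2)).mp h1]
      simp]
    rw [Finset.sum_const, nsmul_eq_mul, mul_one, ← H5.card_monoidHom_eq_index_commutator,
      Nat.card_congr (H5.linearCharEquiv G), Nat.card_eq_fintype_card, Fintype.card_subtype]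
    congr 2
    ext ψ
    simp only [Finset.mem_filter, Finset.mem_univ, true_and]
    exact (H88.charDegree_eq_one_iff (H5.isCharacter_of_isIrr ψ.2)).symm
  · symm
    refine Finset.sum_eq_single_of_mem χ (by simpa using hχ1) fun ψ hψ h => ?_
    rw [hother ψ (Finset.mem_filter.1 hψ).2 h, zero_mul]

theorem one_main (hg : g ∉ Subgroup.center G) (hχ1 : charDegree (χ : G → ℂ) ≠ 1)
    (hχg : (χ : G → ℂ) g ≠ 0)
    (hother : ∀ ψ : IrrCharacter G, charDegree (ψ : G → ℂ) ≠ 1 → ψ ≠ χ → (ψ : G → ℂ) g = 0) :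
    g ∈ commutator G ∧ (χ : G → ℂ) g = -(((commutator G).index : ℂ) / (χ : G → ℂ) 1) ∧
    ((commutator G : Set G) = {x : G | (χ : G → ℂ) x = (χ : G → ℂ) 1} ∪ {h : G | IsConj g h}) ∧
    (∀ x : G, x ∉ commutator G → (χ : G → ℂ) x = 0) ∧
    (∀ ψ : IrrCharacter G, charDegree (ψ : G → ℂ) ≠ 1 →
      (∀ x : G, (χ : G → ℂ) x = (χ : G → ℂ) 1 → (ψ : G → ℂ) x = (ψ : G → ℂ) 1) → ψ = χ) ∧
    Group.IsSolvable G := by
  classical
  have hc := H5.isCharacter_of_isIrr χ.2
  have h0 := H5.degree_ne_zero χ.2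
  have h4 : ∀ x, (χ : G → ℂ) x ≠ 0 → x ∈ commutator G := fun x => one_mul_lin hχ1 hχg hother
  have h1 := h4 g hχg
  have hg1 : g ≠ 1 := fun h => hg (h ▸ one_mem _)
  have hr : (starRingEnd ℂ) ((χ : G → ℂ) 1) = (χ : G → ℂ) 1 := by
    rw [← H88.charDegree_cast hc]; simp
  have e1 := one_col hχ1 h1 hother (one_mem _) (by simpa using hg1)
  have h3 : ∀ x ∈ commutator G, (χ : G → ℂ) x ≠ (χ : G → ℂ) 1 → IsConj g x := fun x hx h => by
    by_contra h5
    have e2 := (one_col hχ1 h1 hother hx h5).trans e1.symm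
    rw [add_right_inj, mul_right_inj' hχg] at e2
    exact h ((starRingEnd ℂ).injective e2)
  have hgK : (χ : G → ℂ) g ≠ (χ : G → ℂ) 1 := fun h => by
    rw [h, hr, ← H88.charDegree_cast hc] at e1
    have : (commutator G).index + charDegree (χ : G → ℂ) * charDegree (χ : G → ℂ) = 0 := by
      exact_mod_cast e1
    exact (commutator G).index_ne_zero_of_finite (by omega)
  set K := H5.charKer hc
  have hKD : K ≤ commutator G := fun x hx => h4 x (by rw [(H5.mem_charKer hc).1 hx]; exact h0)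
  have hconj : ∀ x ∈ commutator G, x ∉ K → ∀ y ∈ commutator G, y ∉ K → IsConj x y :=
    fun x hx hxK y hy hyK => (h3 x hx hxK).symm.trans (h3 y hy hyK)
  refine ⟨h1, ?_, ?_, fun x hx => by_contra fun h => hx (h4 x h), fun ψ hψ hk => ?_, ?_⟩
  · rw [hr] at e1
    rw [← neg_div, eq_div_iff h0]
    exact eq_neg_of_add_eq_zero_right e1
  · ext x
    refine ⟨fun hx => or_iff_not_imp_left.2 (h3 x hx), fun hx => hx.elim (fun h => hKD h)
      fun h => ?_⟩
    obtain ⟨c, rfl⟩ := isConj_iff.1 h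
    exact Subgroup.Normal.conj_mem inferInstance g h1 c
  · by_contra hne
    haveI := Fintype.ofFinite (commutator G)
    refine hψ ((H88.commutator_le_charKer_iff ψ.2).1 fun x hx =>
      H88.apply_eq_degree_of_sum_ne_zero ψ.2 _ ?_ hx)
    rw [Finset.sum_congr rfl (g := fun n : commutator G =>
      if (n : G) ∈ K then (ψ : G → ℂ) 1 else 0) fun n _ => by
        split_ifs with h
        · exact hk _ h
        · rw [← H5.isClassFunction_apply_of_isConj (H5.isClassFunction_of_isIrr ψ.2) (h3 _ n.2 h)]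
          exact hother ψ hψ hne, ← Finset.sum_filter, Finset.sum_const, nsmul_eq_mul]
    exact mul_ne_zero (Nat.cast_ne_zero.2 (Finset.card_ne_zero.2 ⟨1, by simp⟩))
      (H5.degree_ne_zero ψ.2)
  obtain ⟨φ, hφ, eφ⟩ := H5.exists_isIrr_quotient K χ.2 fun x hx => hx
  have hm : ∀ x : G, QuotientGroup.mk' K x = 1 ↔ x ∈ K := fun x => QuotientGroup.eq_one_iff x
  haveI := Subgroup.Normal.map (inferInstance : (commutator G).Normal) _
    (QuotientGroup.mk'_surjective K)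
  rcases tr_cases (V := (commutator G).map (QuotientGroup.mk' K)) (g := QuotientGroup.mk' K g)
    (fun a b => by
      obtain ⟨a, rfl⟩ := QuotientGroup.mk'_surjective K a
      obtain ⟨b, rfl⟩ := QuotientGroup.mk'_surjective K b
      exact ⟨⁅a, b⁆, Subgroup.commutator_mem_commutator (Subgroup.mem_top _) (Subgroup.mem_top _),
        by simp only [commutatorElement_def, map_mul, map_inv]⟩) ⟨g, h1, rfl⟩
    (fun h => hgK ((hm g).1 h))
    (by
      rintro _ ⟨x, hx, rfl⟩ h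
      exact (QuotientGroup.mk' K).map_isConj (h3 x hx fun h5 => h ((hm x).2 h5)))
    (fun z hz => by
      obtain ⟨z, rfl⟩ := QuotientGroup.mk'_surjective K z
      exact ⟨z, h4 z (by rw [eφ]; exact nv_of_mem_center hz φ hφ), rfl⟩) with h2 | ⟨p, hp, hcam⟩
  · obtain ⟨a, ha⟩ := orderOf_eq_pow_of_conj (p := 2) (fun y _ => by
      obtain ⟨k, hk⟩ := h2 (QuotientGroup.mk' K y)
      exact ⟨k, (hm _).1 (by rw [map_pow, hk])⟩) hconj h1 hgK
    obtain ⟨N, hN, hcop, k, hk⟩ := H3.hasNormalPComplement_iff_exists_normal.1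
      (hasNormalPComplement_of_dvd (G := G) (p := 2) fun ψ hψ => by
        by_cases h : ψ = χ
        · obtain ⟨j, hj⟩ := H88.exists_charDegree_eq_pow h2 hφ
          rw [h] at hψ ⊢
          rw [eφ, H88.charDegree_inflate, hj] at hψ ⊢
          exact dvd_pow_self 2 fun h0 => hψ (by rw [h0, pow_zero])
        · exact S4558.result 2 _ (H5.isCharacter_of_isIrr ψ.2) g ⟨a, ha⟩ (hother ψ hψ h))
    exact solv_of_complement (S0205.result (Nat.coprime_two_right.1 hcop)) hk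
  · haveI := Fact.mk hp
    haveI := (hcam.of_quot inferInstance hKD hconj).solvable hconj
    haveI : Group.IsSolvable (G ⧸ commutator G) :=
      inferInstanceAs (Group.IsSolvable (Abelianization G))
    exact solv_of_normal (commutator G)

end main

end Cfsg.Agent.H9
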