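import Cfsg.Agent.S0191
import Cfsg.Agent.S0938
import Cfsg.Agent.S4888
import Cfsg.Agent.H88.PLocal

set_option autoImplicit false
set_option linter.unusedSectionVars false
set_option linter.style.haveILetI false

open Cfsg
open scoped commutatorElement

namespace Cfsg.Agent.H9

variable {G : Type*} [Group G] [Finite G]

/-- Burnside: an irreducible character without zeros is linear. -/
theorem charDegree_eq_one_of_no_zero (χ : IrrCharacter G) (h : ∀ g, (χ : G → ℂ) g ≠ 0) :
    charDegree (χ : G → ℂ) = 1 := by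
  obtain ⟨χ, n, ρ, hρ, rfl⟩ := χ
  by_contra hne
  have h0 := H88.charDegree_pos (G := G) ⟨n, ρ, hρ, rfl⟩
  have hd := H88.charDegree_character ρ
  simp only at hne h
  obtain ⟨g, hg⟩ := S0191.result ρ (by omega)
  exact h g hg

/-- A zero of a character of the principal block has class size divisible by `p`. -/
theorem dvd_index_of_principal_zero {p : ℕ} {M : Ideal AlgInt} (hM : IsPModular p M)
    {χ : IrrCharacter G} (hχ : χ ∈ principalBlock M G) {x : G} (hx : (χ : G → ℂ) x = 0) :
    p ∣ (Subgroup.centralizer ({x} : Set G)).index := by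
  haveI := hM.2.1
  have h := hχ x
  rw [← H32.mem_locMax] at h
  simp only [centralChar, hx, mul_zero, zero_div, sub_zero, mul_one, div_one] at h
  exact (H32.natCast_mem_locMax_iff hM).1 h

/-- If all characters of the principal block are linear, the derived subgroup is a `p'`-group. -/
theorem not_dvd_card_commutator_of_principal_linear {p : ℕ} [Fact p.Prime] {M : Ideal AlgInt}
    (hM : IsPModular p M) (h : ∀ χ ∈ principalBlock M G, charDegree (χ : G → ℂ) = 1) :
    ¬ p ∣ Nat.card (commutator G) := by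
  haveI := hM.2.1
  obtain ⟨K, -, hK, hp, -⟩ := S0938.result p M hM _ H33.isPBlock_principalBlock _
    (H33.oneIrr_mem_principalBlock (G := G))
  have hle : commutator G ≤ K := by
    intro g hg
    have : g ∈ (K : Set G) := by
      rw [hK]
      exact fun χ hχ => (H88.commutator_le_charKer_iff χ.2).2 (h χ hχ) g hg
    exact this
  exact fun hd => hp (hd.trans (Subgroup.card_dvd_of_le hle))

theorem vanish_main (p : ℕ) [Fact p.Prime]
    (h : ∀ x : G, (∃ χ : IrrCharacter G, (χ : G → ℂ) x = 0) →
      ¬ p ∣ (Subgroup.centralizer ({x} : Set G)).index) :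
    ¬ p ∣ Nat.card (commutator G) ∧ HasNormalPComplement p G := by
  obtain ⟨M, hM⟩ := H88.exists_isPModular (p := p) Fact.out
  have hlin : ∀ χ ∈ principalBlock M G, charDegree (χ : G → ℂ) = 1 := fun χ hχ =>
    charDegree_eq_one_of_no_zero χ fun g hg => h g ⟨χ, hg⟩ (dvd_index_of_principal_zero hM hχ hg)
  exact ⟨not_dvd_card_commutator_of_principal_linear hM hlin,
    (S4888.result p M hM).1 ⟨1, fun χ hχ _ => hlin χ hχ⟩⟩

theorem isMulCommutative_of_not_dvd_card_commutator {p : ℕ} [Fact p.Prime]
    (h : ¬ p ∣ Nat.card (commutator G)) {P : Subgroup G} (hP : IsPGroup p P) :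
    IsMulCommutative P := by
  refine ⟨⟨fun a b => ?_⟩⟩
  have h1 : ⁅(a : G), (b : G)⁆ ∈ commutator G :=
    Subgroup.commutator_mem_commutator (Subgroup.mem_top _) (Subgroup.mem_top _)
  have h2 : ⁅(a : G), (b : G)⁆ ∈ P := by
    rw [commutatorElement_def]
    exact P.mul_mem (P.mul_mem (P.mul_mem a.2 b.2) (P.inv_mem a.2)) (P.inv_mem b.2)
  obtain ⟨k, hk⟩ := hP.exists_orderOf_eq_pow ⟨_, h2⟩
  rw [Subgroup.orderOf_mk] at hk
  have h3 := (commutator G).orderOf_dvd_natCard h1
  rw [hk] at h3
  rcases k with _ | k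
  · rw [pow_zero, orderOf_eq_one_iff, commutatorElement_eq_one_iff_mul_comm] at hk
    exact Subtype.ext hk
  · exact absurd ((dvd_pow_self p k.succ_ne_zero).trans h3) h

end Cfsg.Agent.H9
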